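import Mathlib

/-!
# E8, `q` of order 3 or 6 modulo `p`: arithmetic of the values of the power sums (S4791 + S4927, helper637)

`f12 i = S6 12 X_i s` and so on (`H637/NE/E8Val.lean`).
-/

set_option autoImplicit false

namespace Cfsg.Agent.H637.NE

def f12 : Fin 3 → ℤ := ![3306744, 79361856, 449717184]
def f18 : Fin 3 → ℤ := ![2321334288, -74282697216, -73391304849408]
def f24 : Fin 3 → ℤ := ![1694663312328, 174046502347200, 861496842972927168]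
def f30 : Fin 3 → ℤ := ![1235344468044960, -267443616068254080, -15674291722718571720960]

/-- the matrix for `p ≠ 199` -/
def MA1 (R : Type*) [CommRing R] : Matrix (Fin 3) (Fin 3) R :=
  Matrix.of ![fun i => (f12 i : R) ^ 3, fun i => (f12 i : R) * (f24 i : R), fun i => (f18 i : R) ^ 2]

/-- the matrix for `p = 199` -/
def MA2 (R : Type*) [CommRing R] : Matrix (Fin 3) (Fin 3) R :=
  Matrix.of ![fun i => (f12 i : R) ^ 5, fun i => (f12 i : R) ^ 2 * (f18 i : R) ^ 2, fun i => (f30 i : R) ^ 2]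

theorem det_MA1 {R : Type*} [CommRing R] :
    (MA1 R).det = -(((2 ^ 39 * 3 ^ 84 * 5 ^ 3 * 7 ^ 11 * 11 * 13 ^ 2 * 19 * 199 : ℕ) : R)) := by
  rw [Matrix.det_fin_three]
  simp only [MA1, Matrix.of_apply, f12, f18, f24, Matrix.cons_val]
  push_cast
  norm_num

theorem ne_zero_of {p : ℕ} [hp : Fact p.Prime] {n : ℕ} (h : ¬ p ∣ n) : ((n : ℕ) : ZMod p) ≠ 0 := by
  rwa [Ne, ZMod.natCast_eq_zero_iff]

theorem not_dvd {p : ℕ} (hp : p.Prime) (h43 : 43 ≤ p) (h199 : p ≠ 199) :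
    ¬ p ∣ 2 ^ 39 * 3 ^ 84 * 5 ^ 3 * 7 ^ 11 * 11 * 13 ^ 2 * 19 * 199 := by
  intro h
  have key : ∀ {q : ℕ}, q.Prime → p ∣ q → p = q := fun hq h => (Nat.prime_dvd_prime_iff_eq hp hq).1 h
  rw [hp.dvd_mul, hp.dvd_mul, hp.dvd_mul, hp.dvd_mul, hp.dvd_mul, hp.dvd_mul, hp.dvd_mul] at h
  rcases h with ((((((h | h) | h) | h) | h) | h) | h) | h
  · have := key (by norm_num) (hp.dvd_of_dvd_pow h); omega
  · have := key (by norm_num) (hp.dvd_of_dvd_pow h); omega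
  · have := key (by norm_num) (hp.dvd_of_dvd_pow h); omega
  · have := key (by norm_num) (hp.dvd_of_dvd_pow h); omega
  · have := key (by norm_num) h; omega
  · have := key (by norm_num) (hp.dvd_of_dvd_pow h); omega
  · have := key (by norm_num) h; omega
  · have := key (by norm_num) h; omega

/-- small prime divisors -/
theorem not_dvd_small {p : ℕ} (hp : p.Prime) (h : 23 ≤ p) (n : ℕ)
    (hn : n ∣ (2 * 3 * 7 * 13 * 17 * 19) ^ 20) : ¬ p ∣ n := by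
  intro h1
  have h2 := hp.dvd_of_dvd_pow (h1.trans hn)
  have key : ∀ {q : ℕ}, q.Prime → p ∣ q → p = q := fun hq h => (Nat.prime_dvd_prime_iff_eq hp hq).1 h
  rw [hp.dvd_mul, hp.dvd_mul, hp.dvd_mul, hp.dvd_mul, hp.dvd_mul] at h2
  rcases h2 with ((((h2 | h2) | h2) | h2) | h2) | h2
  all_goals
    have := key (by norm_num) h2
    omega

theorem f12_ne {p : ℕ} [hp : Fact p.Prime] (h : 23 ≤ p) (i : Fin 3) : (f12 i : ZMod p) ≠ 0 := by
  have h1 : ∀ i : Fin 3, (f12 i).natAbs ∣ (2 * 3 * 7 * 13 * 17 * 19) ^ 20 := by decide +kernel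
  rw [Ne, ZMod.intCast_zmod_eq_zero_iff_dvd, Int.natCast_dvd]
  exact not_dvd_small hp.out h _ (h1 i)

theorem f18_ne {p : ℕ} [hp : Fact p.Prime] (h : 23 ≤ p) (i : Fin 3) : (f18 i : ZMod p) ≠ 0 := by
  have h1 : ∀ i : Fin 3, (f18 i).natAbs ∣ (2 * 3 * 7 * 13 * 17 * 19) ^ 20 := by decide +kernel
  rw [Ne, ZMod.intCast_zmod_eq_zero_iff_dvd, Int.natCast_dvd]
  exact not_dvd_small hp.out h _ (h1 i)

/-- (A1) -/
theorem A1 {p : ℕ} [hp : Fact p.Prime] (h43 : 43 ≤ p) (h199 : p ≠ 199) :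
    (Matrix.of ![fun i => (f12 i : ZMod p) ^ 3, fun i => (f12 i : ZMod p) * (f24 i : ZMod p),
      fun i => (f18 i : ZMod p) ^ 2]).det ≠ 0 ∧ ∀ i, (f12 i : ZMod p) ≠ 0 ∧ (f18 i : ZMod p) ≠ 0 := by
  refine ⟨?_, fun i => ⟨f12_ne (by omega) i, f18_ne (by omega) i⟩⟩
  have h1 := det_MA1 (R := ZMod p)
  intro h0
  have h2 : (MA1 (ZMod p)).det = 0 := h0
  rw [h1, neg_eq_zero] at h2
  exact ne_zero_of (not_dvd hp.out h43 h199) h2

/-- (A2) -/
theorem A2 : (Matrix.of ![fun i => (f12 i : ZMod 199) ^ 5, fun i => (f12 i : ZMod 199) ^ 2 * (f18 i : ZMod 199) ^ 2,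
    fun i => (f30 i : ZMod 199) ^ 2]).det ≠ 0 ∧ ∀ i, (f12 i : ZMod 199) ≠ 0 := by
  constructor
  · rw [Matrix.det_fin_three]
    decide +kernel
  · decide +kernel

/-- (A3) -/
theorem A3 : (f12 0 : ZMod 31) ^ 2 * (f24 1 : ZMod 31) - (f12 1 : ZMod 31) ^ 2 * (f24 0 : ZMod 31) = 13 := by
  decide +kernel

/-- (A4) -/
theorem A4 : (f12 0 : ZMod 37) * (f18 0 : ZMod 37) * (f30 1 : ZMod 37) -
    (f12 1 : ZMod 37) * (f18 1 : ZMod 37) * (f30 0 : ZMod 37) = 5 := by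
  decide +kernel

/-- (A5) -/
theorem A5 : (f12 0 : ZMod 19) = 3 := by
  decide +kernel

end Cfsg.Agent.H637.NE
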