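import Cfsg.Agent.H92.NE.E8Def

/-!
# E8, `q` of order 3 or 6 modulo `p`: the values of the power sums `S6` at `X0`, `X1`, `X2` (S4791 + S4927, helper637)
-/

set_option autoImplicit false
set_option maxRecDepth 100000

namespace Cfsg.Agent.H637.NE

open Cfsg Cfsg.Lie Cfsg.Lie.ChevalleyDatum
open Cfsg.Agent.Nodes.RGDChev Cfsg.Agent.H129.WData Cfsg.Agent.H994.KE.E8 Cfsg.Agent.H92.NE.E8

/-! ### linear forms -/

theorem bq_eq (u v : Fin 8 → ℤ) : bq u v = ∑ j, (∑ i, u i * Am i j) * v j := by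
  unfold bq
  rw [Finset.sum_comm]
  exact Finset.sum_congr rfl fun j _ => (Finset.sum_mul ..).symm

theorem a6_eq {x c : Fin 8 → ℤ} (h : ∀ j, ∑ i, (2 * x i - ap W6 x i) * Am i j = c j) (r : Fin chevE8.nroots) :
    a6 x r = ∑ j, c j * vec chevE8 8 r j := by
  unfold a6
  rw [bq_eq]
  exact Finset.sum_congr rfl fun j _ => by rw [h]

theorem b6_eq {x c : Fin 8 → ℤ} (h : ∀ j, ∑ i, (2 * ap W6 x i - x i) * Am i j = c j) (r : Fin chevE8.nroots) :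
    b6 x r = ∑ j, c j * vec chevE8 8 r j := by
  unfold b6
  rw [bq_eq]
  exact Finset.sum_congr rfl fun j _ => by rw [h]

/-! ### the ring `ℤ[s]`, `s ^ 2 = s - 1` -/

/-- multiplication -/
def ml (p q : ℤ × ℤ) : ℤ × ℤ := (p.1 * q.1 - p.2 * q.2, p.1 * q.2 + p.2 * q.1 + p.2 * q.2)

def p6 (p : ℤ × ℤ) : ℤ × ℤ := ml (ml p (ml p p)) (ml p (ml p p))
def p12 (p : ℤ × ℤ) : ℤ × ℤ := ml (p6 p) (p6 p)
def p18 (p : ℤ × ℤ) : ℤ × ℤ := ml (p12 p) (p6 p)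
def p24 (p : ℤ × ℤ) : ℤ × ℤ := ml (p12 p) (p12 p)
def p30 (p : ℤ × ℤ) : ℤ × ℤ := ml (p24 p) (p6 p)

section

variable {R : Type*} [CommRing R] {s : R}

/-- evaluation -/
def evs (s : R) (p : ℤ × ℤ) : R := (p.1 : R) + s * (p.2 : R)

theorem evs_ml (hs : s ^ 2 = s - 1) (p q : ℤ × ℤ) : evs s (ml p q) = evs s p * evs s q := by
  unfold evs ml
  push_cast
  linear_combination (-(p.2 : R) * (q.2 : R)) * hs

theorem evs_p6 (hs : s ^ 2 = s - 1) (p : ℤ × ℤ) : evs s (p6 p) = evs s p ^ 6 := by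
  unfold p6
  rw [evs_ml hs, evs_ml hs, evs_ml hs]
  ring

theorem evs_p12 (hs : s ^ 2 = s - 1) (p : ℤ × ℤ) : evs s (p12 p) = evs s p ^ 12 := by
  unfold p12
  rw [evs_ml hs, evs_p6 hs]
  ring

theorem evs_p18 (hs : s ^ 2 = s - 1) (p : ℤ × ℤ) : evs s (p18 p) = evs s p ^ 18 := by
  unfold p18
  rw [evs_ml hs, evs_p6 hs, evs_p12 hs]
  ring

theorem evs_p24 (hs : s ^ 2 = s - 1) (p : ℤ × ℤ) : evs s (p24 p) = evs s p ^ 24 := by
  unfold p24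
  rw [evs_ml hs, evs_p12 hs]
  ring

theorem evs_p30 (hs : s ^ 2 = s - 1) (p : ℤ × ℤ) : evs s (p30 p) = evs s p ^ 30 := by
  unfold p30
  rw [evs_ml hs, evs_p24 hs, evs_p6 hs]
  ring

/-- the sum over a list -/
def tot (f : ℤ × ℤ → ℤ × ℤ) : List (ℤ × ℤ) → ℤ × ℤ
  | [] => (0, 0)
  | p :: l => ((f p).1 + (tot f l).1, (f p).2 + (tot f l).2)

theorem evs_tot (f : ℤ × ℤ → ℤ × ℤ) (l : List (ℤ × ℤ)) : evs s (tot f l) = (l.map fun p => evs s (f p)).sum := by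
  induction l with
  | nil => simp [tot, evs]
  | cons p l ih =>
    rw [List.map_cons, List.sum_cons, ← ih]
    show evs s ((f p).1 + (tot f l).1, (f p).2 + (tot f l).2) = _
    unfold evs
    push_cast
    ring

end

/-- the pair of a root -/
def prr (c d : Fin 8 → ℤ) (r : ℕ) : ℤ × ℤ := (∑ j, c j * vec chevE8 8 r j, ∑ j, d j * vec chevE8 8 r j)

theorem nr : chevE8.nroots = 240 := by decide +kernel

theorem S6_eq {R : Type*} [CommRing R] {s : R} {m : ℕ} {x c d : Fin 8 → ℤ}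
    (hc : ∀ j, ∑ i, (2 * x i - ap W6 x i) * Am i j = c j) (hd : ∀ j, ∑ i, (2 * ap W6 x i - x i) * Am i j = d j)
    {L : List (ℤ × ℤ)} (hL : (List.range 240).map (prr c d) = L) {f : ℤ × ℤ → ℤ × ℤ}
    (hf : ∀ p, evs s (f p) = evs s p ^ m) {v : ℤ} (hv : tot f L = (v, 0)) : S6 m x s = (v : R) := by
  have h1 : S6 m x s = ∑ r : Fin chevE8.nroots, evs s (prr c d r) ^ m := by
    unfold S6
    refine Finset.sum_congr rfl fun r _ => ?_
    rw [a6_eq hc, b6_eq hd]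
    rfl
  rw [h1, ← Finset.sum_range (fun i => evs s (prr c d i) ^ m), nr]
  have h2 : evs s (tot f L) = (v : R) := by
    rw [hv]
    simp [evs]
  rw [← h2, evs_tot, ← hL, List.map_map, Finset.sum, Finset.range_val, Multiset.range, Multiset.map_coe,
    Multiset.sum_coe]
  refine congrArg List.sum (List.map_congr_left fun i _ => ?_)
  rw [Function.comp_apply, hf]

/-! ### the point `X0` -/

def CA0 : Fin 8 → ℤ := ![3, 0, -2, 0, 0, 1, -1, 0]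
def CB0 : Fin 8 → ℤ := ![0, 0, 1, 0, 0, -2, 2, 0]

theorem hCA0 : ∀ j, ∑ i, (2 * X0 i - ap W6 X0 i) * Am i j = CA0 j := by decide +kernel

theorem hCB0 : ∀ j, ∑ i, (2 * ap W6 X0 i - X0 i) * Am i j = CB0 j := by decide +kernel

/-- the pairs of the roots -/
def PL0 : List (ℤ × ℤ) := [
  (1, -2), (1, -2), (0, 0), (1, -2), (1, -2), (1, -2), (-1, -1), (1, -2), (-1, -1), (-1, -1), (-1, -1), (0, -3),
  (-1, -1), (-1, -1), (2, -1), (2, -1), (2, -1), (2, -1), (3, -3), (2, -1), (2, -1), (0, 0), (0, 0), (1, -2), (0, 0),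
  (0, 0), (0, 0), (1, -2), (0, 0), (0, 0), (1, -2), (0, 0), (0, 0), (1, -2), (1, -2), (0, 0), (0, 0), (1, -2),
  (0, 0), (0, 0), (1, -2), (0, 0), (0, 0), (1, -2), (1, -2), (0, 0), (1, -2), (0, 0), (0, 0), (1, -2), (1, -2),
  (0, 0), (1, -2), (1, -2), (0, 0), (1, -2), (-1, -1), (-2, 1), (-2, 1), (-1, -1), (-1, -1), (-2, 1), (-1, -1),
  (-1, -1), (-2, 1), (-1, -1), (-1, -1), (-1, -1), (-2, 1), (-1, -1), (-1, -1), (-1, -1), (-1, -1), (-2, 1),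
  (-1, -1), (-1, -1), (-1, -1), (-3, 0), (2, -1), (1, 1), (1, 1), (2, -1), (2, -1), (1, 1), (2, -1), (2, -1), (1, 1),
  (2, -1), (2, -1), (2, -1), (1, 1), (2, -1), (2, -1), (0, 0), (0, 0), (-1, 2), (0, 0), (0, 0), (0, 0), (2, -1),
  (2, -1), (1, 1), (2, -1), (2, -1), (2, -1), (0, 0), (0, 0), (-1, 2), (0, 0), (0, 0), (0, 0), (0, 0), (-1, 2),
  (0, 0), (0, 0), (0, 0), (-1, 2), (1, -2), (1, -2), (0, 0), (0, 0), (-1, 2), (-1, 2), (1, -2), (0, 0), (0, 0),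
  (0, 0), (1, -2), (0, 0), (0, 0), (0, 0), (0, 0), (1, -2), (0, 0), (0, 0), (-2, 1), (-2, 1), (-2, 1), (-1, -1),
  (-2, 1), (-2, 1), (0, 0), (0, 0), (0, 0), (1, -2), (0, 0), (0, 0), (-2, 1), (-2, 1), (-1, -1), (-2, 1), (-2, 1),
  (-2, 1), (-1, -1), (-2, 1), (-2, 1), (-1, -1), (-2, 1), (-2, 1), (-1, -1), (-1, -1), (-2, 1), (3, 0), (1, 1),
  (1, 1), (1, 1), (2, -1), (1, 1), (1, 1), (1, 1), (1, 1), (2, -1), (1, 1), (1, 1), (1, 1), (2, -1), (1, 1), (1, 1),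
  (2, -1), (1, 1), (1, 1), (2, -1), (2, -1), (1, 1), (-1, 2), (0, 0), (-1, 2), (-1, 2), (0, 0), (-1, 2), (-1, 2),
  (0, 0), (0, 0), (-1, 2), (0, 0), (-1, 2), (-1, 2), (0, 0), (0, 0), (-1, 2), (0, 0), (0, 0), (-1, 2), (0, 0),
  (0, 0), (-1, 2), (-1, 2), (0, 0), (0, 0), (-1, 2), (0, 0), (0, 0), (-1, 2), (0, 0), (0, 0), (0, 0), (-1, 2),
  (0, 0), (0, 0), (-2, 1), (-2, 1), (-3, 3), (-2, 1), (-2, 1), (-2, 1), (-2, 1), (1, 1), (1, 1), (0, 3), (1, 1),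
  (1, 1), (1, 1), (-1, 2), (1, 1), (-1, 2), (-1, 2), (-1, 2), (0, 0), (-1, 2), (-1, 2)]

theorem hPL0 : (List.range 240).map (prr CA0 CB0) = PL0 := by decide +kernel

theorem tot12_0 : tot p12 PL0 = (3306744, 0) := by decide +kernel

theorem S6_12_X0 {R : Type*} [CommRing R] {s : R} (hs : s ^ 2 = s - 1) : S6 12 X0 s = 3306744 := by
  rw [S6_eq hCA0 hCB0 hPL0 (evs_p12 hs) tot12_0]
  norm_num

theorem tot18_0 : tot p18 PL0 = (2321334288, 0) := by decide +kernel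

theorem S6_18_X0 {R : Type*} [CommRing R] {s : R} (hs : s ^ 2 = s - 1) : S6 18 X0 s = 2321334288 := by
  rw [S6_eq hCA0 hCB0 hPL0 (evs_p18 hs) tot18_0]
  norm_num

theorem tot24_0 : tot p24 PL0 = (1694663312328, 0) := by decide +kernel

theorem S6_24_X0 {R : Type*} [CommRing R] {s : R} (hs : s ^ 2 = s - 1) : S6 24 X0 s = 1694663312328 := by
  rw [S6_eq hCA0 hCB0 hPL0 (evs_p24 hs) tot24_0]
  norm_num

theorem tot30_0 : tot p30 PL0 = (1235344468044960, 0) := by decide +kernel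

theorem S6_30_X0 {R : Type*} [CommRing R] {s : R} (hs : s ^ 2 = s - 1) : S6 30 X0 s = 1235344468044960 := by
  rw [S6_eq hCA0 hCB0 hPL0 (evs_p30 hs) tot30_0]
  norm_num

/-! ### the point `X1` -/

def CA1 : Fin 8 → ℤ := ![-1, -2, 1, 1, -2, 1, 3, -2]
def CB1 : Fin 8 → ℤ := ![-1, 1, -2, 1, 1, -2, 0, 1]

theorem hCA1 : ∀ j, ∑ i, (2 * X1 i - ap W6 X1 i) * Am i j = CA1 j := by decide +kernel

theorem hCB1 : ∀ j, ∑ i, (2 * ap W6 X1 i - X1 i) * Am i j = CB1 j := by decide +kernel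

/-- the pairs of the roots -/
def PL1 : List (ℤ × ℤ) := [
  (-1, 2), (-3, 3), (0, 3), (1, 1), (-1, 2), (0, 3), (1, 1), (-2, 4), (-1, 2), (0, 3), (-2, 4), (-1, 2), (2, 2),
  (0, 3), (0, 0), (-2, 1), (-1, 2), (-3, 3), (-2, 1), (1, 1), (-1, 2), (0, 0), (-2, 1), (-1, -1), (2, -1), (0, 0),
  (-1, 2), (0, 0), (3, 0), (1, 1), (-2, 1), (1, 1), (-1, 2), (2, -1), (0, 0), (3, 0), (-3, 3), (-2, 1), (1, 1),
  (-1, 2), (-4, 2), (-1, 2), (-3, 3), (0, 0), (-2, 1), (1, 1), (-3, 3), (0, 3), (-2, 4), (1, 1), (-1, 2), (2, 2),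
  (-1, 2), (-3, 3), (0, 3), (1, 1), (-2, 1), (1, 1), (-1, 2), (2, -1), (0, 0), (3, 0), (0, 0), (-2, 1), (1, 1),
  (2, -1), (1, 1), (-1, 2), (2, 2), (3, 0), (1, 1), (-1, 2), (-3, 3), (0, 3), (1, 1), (-1, 2), (0, 3), (1, 1),
  (-3, 0), (0, 0), (-2, 1), (1, -2), (-1, -1), (2, -1), (-1, -1), (-3, 0), (0, 0), (1, -2), (0, 0), (-2, 1), (1, 1),
  (2, -1), (0, 0), (1, -2), (-1, -1), (2, -1), (3, -3), (1, -2), (2, -1), (-2, 1), (-4, 2), (-1, 2), (0, 0), (-2, 1),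
  (-1, 2), (-1, -1), (-3, 0), (0, 0), (1, -2), (-1, -1), (0, 0), (-2, 1), (1, 1), (2, -1), (-2, 1), (-4, 2), (-1, 2),
  (-1, -1), (-3, 0), (2, -1), (-2, 1), (3, 0), (1, 1), (1, -2), (4, -2), (2, -1), (-2, 1), (-1, -1), (2, -1), (0, 0),
  (1, 1), (-1, 2), (0, 0), (3, 0), (1, 1), (1, -2), (2, -1), (0, 0), (1, -2), (4, -2), (2, -1), (-2, 1), (-1, 2),
  (-3, 3), (-2, 1), (1, 1), (-1, 2), (0, 0), (-2, 1), (-1, -1), (2, -1), (0, 0), (-1, 2), (0, 0), (3, 0), (1, 1),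
  (-2, 1), (1, 1), (-1, 2), (2, -1), (0, 0), (3, 0), (-1, -1), (0, -3), (1, -2), (-1, -1), (0, -3), (3, -3), (1, -2),
  (-1, -1), (-3, 0), (-2, -2), (1, -2), (-1, -1), (-2, 1), (-1, -1), (2, -1), (0, 0), (-3, 0), (0, 0), (-2, 1),
  (1, -2), (-1, -1), (2, -1), (-1, -1), (0, -3), (3, -3), (1, -2), (-2, -2), (1, -2), (-1, -1), (2, -4), (0, -3),
  (3, -3), (-1, -1), (2, -1), (0, 0), (3, -3), (1, -2), (4, -2), (1, -2), (-1, -1), (2, -1), (3, -3), (-3, 0),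
  (0, 0), (-2, 1), (1, -2), (-1, -1), (2, -1), (-1, -1), (-3, 0), (0, 0), (1, -2), (0, 0), (-2, 1), (1, 1), (2, -1),
  (0, 0), (1, -2), (-1, -1), (2, -1), (3, -3), (1, -2), (2, -1), (0, 0), (0, -3), (-2, -2), (1, -2), (2, -4),
  (0, -3), (1, -2), (2, -4), (-1, -1), (0, -3), (1, -2), (-1, -1), (0, -3), (3, -3), (1, -2)]

theorem hPL1 : (List.range 240).map (prr CA1 CB1) = PL1 := by decide +kernel

theorem tot12_1 : tot p12 PL1 = (79361856, 0) := by decide +kernel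

theorem S6_12_X1 {R : Type*} [CommRing R] {s : R} (hs : s ^ 2 = s - 1) : S6 12 X1 s = 79361856 := by
  rw [S6_eq hCA1 hCB1 hPL1 (evs_p12 hs) tot12_1]
  norm_num

theorem tot18_1 : tot p18 PL1 = (-74282697216, 0) := by decide +kernel

theorem S6_18_X1 {R : Type*} [CommRing R] {s : R} (hs : s ^ 2 = s - 1) : S6 18 X1 s = -74282697216 := by
  rw [S6_eq hCA1 hCB1 hPL1 (evs_p18 hs) tot18_1]
  norm_num

theorem tot24_1 : tot p24 PL1 = (174046502347200, 0) := by decide +kernel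

theorem S6_24_X1 {R : Type*} [CommRing R] {s : R} (hs : s ^ 2 = s - 1) : S6 24 X1 s = 174046502347200 := by
  rw [S6_eq hCA1 hCB1 hPL1 (evs_p24 hs) tot24_1]
  norm_num

theorem tot30_1 : tot p30 PL1 = (-267443616068254080, 0) := by decide +kernel

theorem S6_30_X1 {R : Type*} [CommRing R] {s : R} (hs : s ^ 2 = s - 1) : S6 30 X1 s = -267443616068254080 := by
  rw [S6_eq hCA1 hCB1 hPL1 (evs_p30 hs) tot30_1]
  norm_num

/-! ### the point `X2` -/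

def CA2 : Fin 8 → ℤ := ![-3, 1, 0, 1, -2, 3, -4, 5]
def CB2 : Fin 8 → ℤ := ![3, -5, 0, 1, 1, 0, -1, -1]

theorem hCA2 : ∀ j, ∑ i, (2 * X2 i - ap W6 X2 i) * Am i j = CA2 j := by decide +kernel

theorem hCB2 : ∀ j, ∑ i, (2 * ap W6 X2 i - X2 i) * Am i j = CB2 j := by decide +kernel

/-- the pairs of the roots -/
def PL2 : List (ℤ × ℤ) := [
  (-3, 3), (2, 2), (-2, 1), (1, 1), (-1, 2), (0, 3), (0, 3), (1, -2), (1, -2), (2, -1), (0, 0), (3, 0), (-1, -1),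
  (4, -2), (-3, 6), (-2, 1), (-1, 2), (-3, 3), (0, 3), (-4, 2), (1, 1), (-1, 2), (-3, 3), (0, 3), (-4, 2), (1, 1),
  (-2, 4), (1, 4), (-3, 3), (2, 2), (-1, 5), (-5, 4), (0, 3), (-2, 4), (3, 3), (-1, 2), (-1, -1), (2, -1), (-2, -2),
  (3, -3), (0, 0), (-4, -1), (1, -2), (-1, -1), (4, -2), (0, -3), (1, 1), (-3, 0), (2, -1), (0, 0), (5, -1), (1, -2),
  (-2, 1), (3, 0), (-1, -1), (2, -1), (1, 1), (-3, 0), (2, -1), (0, 0), (5, -1), (1, -2), (-2, 1), (3, 0), (-1, -1),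
  (2, -1), (-1, 2), (4, 1), (0, 0), (3, 0), (1, 1), (0, -3), (5, -4), (1, -5), (4, -5), (2, -4), (3, -3), (3, -3),
  (-2, 4), (-6, 3), (-1, 2), (-3, 3), (2, 2), (-2, 1), (-5, 4), (0, 3), (-4, 2), (-1, 2), (-4, 5), (1, 4), (-3, 3),
  (0, 3), (-2, 4), (-4, 5), (1, 4), (-3, 3), (0, 3), (-2, 4), (-1, 5), (-3, 0), (2, -1), (-2, -2), (1, -2), (-1, -1),
  (0, 0), (-3, 0), (2, -1), (-2, -2), (1, -2), (-1, -1), (-2, 1), (3, 0), (-1, -1), (2, -1), (-4, 2), (1, 1),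
  (-3, 0), (-1, 2), (4, 1), (-5, 1), (5, -1), (-4, -1), (1, -2), (3, 0), (-1, -1), (4, -2), (-2, 1), (1, 1), (-3, 0),
  (2, -1), (1, 1), (-1, 2), (2, 2), (-2, 1), (3, 0), (0, 0), (1, 1), (-1, 2), (2, 2), (-2, 1), (3, 0), (1, -5),
  (2, -4), (0, -3), (3, -3), (-1, -4), (4, -5), (2, -4), (0, -3), (3, -3), (-1, -4), (4, -5), (1, -2), (4, -2),
  (0, -3), (5, -4), (2, -1), (-2, -2), (3, -3), (1, -2), (6, -3), (2, -4), (-3, 3), (-3, 3), (-2, 4), (-4, 5),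
  (-1, 5), (-5, 4), (0, 3), (-1, -1), (-3, 0), (0, 0), (-4, -1), (1, -2), (-2, 1), (1, 1), (-3, 0), (2, -1), (-1, 2),
  (-5, 1), (0, 0), (-2, 1), (3, 0), (-1, -1), (-2, 1), (1, 1), (-3, 0), (2, -1), (-1, 2), (-5, 1), (0, 0), (-2, 1),
  (3, 0), (-1, -1), (0, 3), (-4, 2), (1, 1), (-1, 2), (4, 1), (0, 0), (-3, 3), (2, 2), (-2, 1), (1, 1), (1, -2),
  (-3, -3), (2, -4), (0, -3), (5, -4), (1, -5), (-2, -2), (3, -3), (-1, -4), (2, -4), (-1, -1), (4, -2), (0, -3),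
  (3, -3), (1, -2), (-1, -1), (4, -2), (0, -3), (3, -3), (1, -2), (2, -1), (3, -6), (-4, 2), (1, 1), (-3, 0), (0, 0),
  (-2, 1), (-1, 2), (-1, 2), (0, -3), (0, -3), (1, -2), (-1, -1), (2, -1), (-2, -2), (3, -3)]

theorem hPL2 : (List.range 240).map (prr CA2 CB2) = PL2 := by decide +kernel

theorem tot12_2 : tot p12 PL2 = (449717184, 0) := by decide +kernel

theorem S6_12_X2 {R : Type*} [CommRing R] {s : R} (hs : s ^ 2 = s - 1) : S6 12 X2 s = 449717184 := by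
  rw [S6_eq hCA2 hCB2 hPL2 (evs_p12 hs) tot12_2]
  norm_num

theorem tot18_2 : tot p18 PL2 = (-73391304849408, 0) := by decide +kernel

theorem S6_18_X2 {R : Type*} [CommRing R] {s : R} (hs : s ^ 2 = s - 1) : S6 18 X2 s = -73391304849408 := by
  rw [S6_eq hCA2 hCB2 hPL2 (evs_p18 hs) tot18_2]
  norm_num

theorem tot24_2 : tot p24 PL2 = (861496842972927168, 0) := by decide +kernel

theorem S6_24_X2 {R : Type*} [CommRing R] {s : R} (hs : s ^ 2 = s - 1) : S6 24 X2 s = 861496842972927168 := by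
  rw [S6_eq hCA2 hCB2 hPL2 (evs_p24 hs) tot24_2]
  norm_num

theorem tot30_2 : tot p30 PL2 = (-15674291722718571720960, 0) := by decide +kernel

theorem S6_30_X2 {R : Type*} [CommRing R] {s : R} (hs : s ^ 2 = s - 1) : S6 30 X2 s = -15674291722718571720960 := by
  rw [S6_eq hCA2 hCB2 hPL2 (evs_p30 hs) tot30_2]
  norm_num

end Cfsg.Agent.H637.NE
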